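import Groth.Prelude.Def_CohB1

/-! Points of `Proj` of a polynomial ring given by coordinate vectors with an invertible entry. -/

namespace Groth.Agent.ProjPoint

open AlgebraicGeometry CategoryTheory CategoryTheory.Limits HomogeneousLocalization

universe u

variable {R : Type u} [CommRing R] {n : ℕ} {T T' : Type u} [CommRing T] [CommRing T']

local notation "𝒜" => CohB1.polyGrading n R

lemma X_mem (i : Fin (n + 1)) : (MvPolynomial.X i : MvPolynomial (Fin (n + 1)) R) ∈ 𝒜 1 :=
  MvPolynomial.isHomogeneous_X R i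

lemma eval₂_smul {σ : Type*} (φ : R →+* T) (v : σ → T) (c : T) {d : ℕ} {f : MvPolynomial σ R}
    (hf : f.IsHomogeneous d) :
    MvPolynomial.eval₂Hom φ (fun k ↦ c * v k) f = c ^ d * MvPolynomial.eval₂Hom φ v f := by
  simp only [MvPolynomial.coe_eval₂Hom, MvPolynomial.eval₂_eq, Finset.mul_sum]
  refine Finset.sum_congr rfl fun e he ↦ ?_
  have hd : ∑ i ∈ e.support, e i = d := by
    have := hf (MvPolynomial.mem_support_iff.mp he)
    simpa [Finsupp.weight_apply, Finsupp.sum] using this
  simp only [mul_pow, Finset.prod_mul_distrib, Finset.prod_pow_eq_pow_sum, hd]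
  ring

/-- Evaluation of homogeneous fractions at a coordinate vector. -/
noncomputable def evalAway (φ : R →+* T) (v : Fin (n + 1) → T) (g : MvPolynomial (Fin (n + 1)) R)
    (hg : IsUnit (MvPolynomial.eval₂Hom φ v g)) : Away 𝒜 g →+* T :=
  (IsLocalization.Away.lift g hg).comp (algebraMap (Away 𝒜 g) (Localization.Away g))

lemma evalAway_mk (φ : R →+* T) (v : Fin (n + 1) → T) {g : MvPolynomial (Fin (n + 1)) R}
    (hg : IsUnit (MvPolynomial.eval₂Hom φ v g)) {d : ℕ} (hgd : g ∈ 𝒜 d) (k : ℕ)
    (a : MvPolynomial (Fin (n + 1)) R) (ha : a ∈ 𝒜 (k • d)) :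
    evalAway φ v g hg (Away.mk 𝒜 hgd k a ha) * MvPolynomial.eval₂Hom φ v g ^ k =
      MvPolynomial.eval₂Hom φ v a := by
  rw [evalAway, RingHom.comp_apply, HomogeneousLocalization.algebraMap_apply, Away.val_mk,
    Localization.mk_eq_mk']
  have key := congrArg (IsLocalization.Away.lift (S := Localization.Away g) g hg)
    (IsLocalization.mk'_spec (Localization.Away g) a
      (⟨g ^ k, by use k⟩ : Submonoid.powers g))
  simpa only [map_mul, IsLocalization.Away.lift_eq, map_pow] using key

lemma comp_evalAway (φ : R →+* T) (v : Fin (n + 1) → T) (g : MvPolynomial (Fin (n + 1)) R)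
    (hg : IsUnit (MvPolynomial.eval₂Hom φ v g)) (h : T →+* T')
    (hg' : IsUnit (MvPolynomial.eval₂Hom (h.comp φ) (fun k ↦ h (v k)) g)) :
    h.comp (evalAway φ v g hg) = evalAway (h.comp φ) (fun k ↦ h (v k)) g hg' := by
  rw [evalAway, evalAway, ← RingHom.comp_assoc]
  congr 1
  refine IsLocalization.ringHom_ext (Submonoid.powers g) ?_
  ext a <;> simp [IsLocalization.Away.lift_eq]

lemma evalAway_congr {φ φ' : R →+* T} {v v' : Fin (n + 1) → T}
    {g : MvPolynomial (Fin (n + 1)) R} {hg : IsUnit (MvPolynomial.eval₂Hom φ v g)}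
    {hg' : IsUnit (MvPolynomial.eval₂Hom φ' v' g)} (h₁ : φ = φ') (h₂ : v = v') :
    evalAway φ v g hg = evalAway φ' v' g hg' := by
  subst h₁ h₂
  rfl

lemma evalAway_comp_awayMap (φ : R →+* T) (v : Fin (n + 1) → T)
    {g h x : MvPolynomial (Fin (n + 1)) R} {e : ℕ} (hh : h ∈ 𝒜 e) (hx : x = g * h)
    (hg : IsUnit (MvPolynomial.eval₂Hom φ v g)) (hxu : IsUnit (MvPolynomial.eval₂Hom φ v x)) :
    (evalAway φ v x hxu).comp (awayMap 𝒜 hh hx) = evalAway φ v g hg := by
  have key : (IsLocalization.Away.lift (S := Localization.Away x) x hxu).comp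
      (Localization.awayLift (algebraMap _ (Localization.Away x)) g
        (isUnit_of_dvd_unit (map_dvd _ ⟨_, hx⟩) (IsLocalization.Away.algebraMap_isUnit x))) =
      IsLocalization.Away.lift (S := Localization.Away g) g hg := by
    refine IsLocalization.ringHom_ext (Submonoid.powers g) ?_
    ext a <;> simp [Localization.awayLift, IsLocalization.Away.lift_eq]
  ext z
  rw [evalAway, evalAway, ← key]
  simp only [RingHom.comp_apply, HomogeneousLocalization.algebraMap_apply, val_awayMap]

lemma evalAway_smul (φ : R →+* T) (v : Fin (n + 1) → T) {c : T} (hc : IsUnit c)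
    {g : MvPolynomial (Fin (n + 1)) R} {d : ℕ} (hgd : g ∈ 𝒜 d)
    (hg : IsUnit (MvPolynomial.eval₂Hom φ v g))
    (hg' : IsUnit (MvPolynomial.eval₂Hom φ (fun k ↦ c * v k) g)) :
    evalAway φ (fun k ↦ c * v k) g hg' = evalAway φ v g hg := by
  ext z
  obtain ⟨k, a, ha, rfl⟩ := Away.mk_surjective _ hgd z
  have h1 := evalAway_mk φ (fun k ↦ c * v k) hg' hgd k a ha
  rw [eval₂_smul φ v c hgd, eval₂_smul φ v c ha, ← evalAway_mk φ v hg hgd k a ha, mul_pow,
    ← pow_mul, mul_comm d k, smul_eq_mul] at h1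
  refine ((hc.pow (k * d)).mul (hg.pow k)).mul_left_injective ?_
  dsimp only
  rw [h1]
  ring

lemma isUnit_eval_X {φ : R →+* T} {v : Fin (n + 1) → T} {i : Fin (n + 1)} (hi : IsUnit (v i)) :
    IsUnit (MvPolynomial.eval₂Hom φ v (MvPolynomial.X i)) := by
  simpa using hi

/-- The morphism `Spec T ⟶ ℙⁿ` with coordinates `v`, the `i`-th of which is invertible. -/
noncomputable def point (φ : R →+* T) (v : Fin (n + 1) → T) (i : Fin (n + 1))
    (hi : IsUnit (v i)) : Spec (CommRingCat.of T) ⟶ Proj 𝒜 :=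
  Spec.map (CommRingCat.ofHom (evalAway φ v (MvPolynomial.X i) (isUnit_eval_X hi))) ≫
    Proj.awayι 𝒜 (MvPolynomial.X i) (X_mem i) one_pos

lemma point_eq (φ : R →+* T) {v v' : Fin (n + 1) → T} {c : T} (hc : IsUnit c)
    (h : ∀ k, v' k = c * v k) (i j : Fin (n + 1)) (hi : IsUnit (v i)) (hj : IsUnit (v' j)) :
    point φ v' j hj = point φ v i hi := by
  obtain rfl : v' = fun k ↦ c * v k := funext h
  have hx : IsUnit (MvPolynomial.eval₂Hom φ v (MvPolynomial.X i * MvPolynomial.X j)) := by
    simp only [map_mul, MvPolynomial.eval₂Hom_X']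
    exact hi.mul (IsUnit.mul_iff.mp hj).2
  have hx' : IsUnit
      (MvPolynomial.eval₂Hom φ (fun k ↦ c * v k) (MvPolynomial.X i * MvPolynomial.X j)) := by
    simp only [map_mul, MvPolynomial.eval₂Hom_X']
    exact (hc.mul hi).mul hj
  have hj' : IsUnit (v j) := (IsUnit.mul_iff.mp hj).2
  rw [point, point,
    ← evalAway_comp_awayMap φ (fun k ↦ c * v k) (X_mem i) (mul_comm _ _) (isUnit_eval_X hj) hx',
    ← evalAway_comp_awayMap φ v (X_mem j) rfl (isUnit_eval_X hi) hx,
    evalAway_smul φ v hc (SetLike.mul_mem_graded (X_mem i) (X_mem j)) hx hx',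
    CommRingCat.ofHom_comp, CommRingCat.ofHom_comp, Spec.map_comp, Spec.map_comp,
    Category.assoc, Category.assoc, Proj.SpecMap_awayMap_awayι, Proj.SpecMap_awayMap_awayι]

lemma SpecMap_point (φ : R →+* T) (v : Fin (n + 1) → T) (i : Fin (n + 1)) (hi : IsUnit (v i))
    (h : T →+* T') :
    Spec.map (CommRingCat.ofHom h) ≫ point φ v i hi =
      point (h.comp φ) (fun k ↦ h (v k)) i (hi.map h) := by
  rw [point, point, ← Spec.map_comp_assoc, ← CommRingCat.ofHom_comp, comp_evalAway]

lemma point_congr {φ φ' : R →+* T} {v v' : Fin (n + 1) → T} {i : Fin (n + 1)}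
    {hi : IsUnit (v i)} {hi' : IsUnit (v' i)} (h₁ : φ = φ') (h₂ : v = v') :
    point φ v i hi = point φ' v' i hi' := by
  subst h₁ h₂
  rfl

/-- The structure map of a standard chart. -/
noncomputable def chartBase (i : Fin (n + 1)) : R →+* Away 𝒜 (MvPolynomial.X i) :=
  (fromZeroRingHom 𝒜 _).comp (algebraMap R (𝒜 0))

/-- The coordinate `X_k / X_i` on the `i`-th standard chart. -/
noncomputable def coord (i k : Fin (n + 1)) : Away 𝒜 (MvPolynomial.X i) :=
  Away.mk 𝒜 (X_mem i) 1 (MvPolynomial.X k) (by simpa using X_mem k)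

lemma val_coord_mul (i k : Fin (n + 1)) :
    (coord (R := R) i k).val *
        algebraMap (MvPolynomial (Fin (n + 1)) R)
          (Localization.Away (MvPolynomial.X i : MvPolynomial (Fin (n + 1)) R)) (MvPolynomial.X i) =
      algebraMap (MvPolynomial (Fin (n + 1)) R)
          (Localization.Away (MvPolynomial.X i : MvPolynomial (Fin (n + 1)) R)) (MvPolynomial.X k) := by
  rw [coord, Away.val_mk, Localization.mk_eq_mk']
  convert IsLocalization.mk'_spec
    (Localization.Away (MvPolynomial.X i : MvPolynomial (Fin (n + 1)) R)) (MvPolynomial.X k)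
    (⟨MvPolynomial.X i ^ 1, by use 1⟩ : Submonoid.powers _) using 3
  simp

lemma coord_self (i : Fin (n + 1)) : coord (R := R) i i = 1 := by
  ext
  rw [HomogeneousLocalization.val_one]
  exact (IsLocalization.Away.algebraMap_isUnit _).mul_right_cancel
    ((val_coord_mul i i).trans (one_mul _).symm)

lemma evalAway_coord (i : Fin (n + 1))
    (hu : IsUnit (MvPolynomial.eval₂Hom (chartBase (R := R) i) (coord i) (MvPolynomial.X i))) :
    evalAway (chartBase (R := R) i) (coord i) (MvPolynomial.X i) hu = RingHom.id _ := by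
  let g : MvPolynomial (Fin (n + 1)) R := MvPolynomial.X i
  let val : Away 𝒜 g →+* Localization.Away g := algebraMap _ _
  let j : MvPolynomial (Fin (n + 1)) R →+* Localization.Away g := algebraMap _ _
  have hj : IsUnit (j g) := IsLocalization.Away.algebraMap_isUnit g
  ext z
  obtain ⟨k, a, ha, rfl⟩ := Away.mk_surjective _ (X_mem i) z
  have h1 := evalAway_mk (chartBase i) (coord i) hu (X_mem i) k a ha
  simp only [MvPolynomial.eval₂Hom_X', coord_self, one_pow, mul_one] at h1
  rw [RingHom.id_apply, h1]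
  have hbase : val.comp (chartBase i) = j.comp MvPolynomial.C := by
    ext r
    change (HomogeneousLocalization.mk _ : Away 𝒜 g).val = _
    rw [HomogeneousLocalization.val_mk]
    exact Localization.mk_one_eq_algebraMap _
  change val (MvPolynomial.eval₂Hom (chartBase i) (coord i) a) = _
  have e1 : val (MvPolynomial.eval₂Hom (chartBase i) (coord i) a) =
      MvPolynomial.eval₂Hom (val.comp (chartBase i)) (fun l ↦ val (coord i l)) a := by
    rw [MvPolynomial.map_eval₂Hom]
  have e2 : j a = j g ^ (k • 1) * val (MvPolynomial.eval₂Hom (chartBase i) (coord i) a) := by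
    rw [e1, ← eval₂_smul _ _ (j g) ha, hbase]
    conv_lhs => rw [← MvPolynomial.eval₂_eta a, ← MvPolynomial.coe_eval₂Hom]
    rw [MvPolynomial.map_eval₂Hom]
    refine MvPolynomial.eval₂Hom_congr rfl (funext fun l ↦ ?_) rfl
    rw [mul_comm]
    exact (val_coord_mul i l).symm
  rw [Away.val_mk, Localization.mk_eq_mk', IsLocalization.eq_mk'_iff_mul_eq]
  simp only [smul_eq_mul, mul_one] at e2
  rw [mul_comm]
  simpa [j, g] using e2.symm

lemma SpecMap_awayι_eq_point (i : Fin (n + 1)) (a : Away 𝒜 (MvPolynomial.X i) →+* T) :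
    Spec.map (CommRingCat.ofHom a) ≫ Proj.awayι 𝒜 (MvPolynomial.X i) (X_mem i) one_pos =
      point (a.comp (chartBase i)) (fun k ↦ a (coord i k)) i (by simp [coord_self]) := by
  rw [point, ← comp_evalAway _ _ _ (isUnit_eval_X (by simp [coord_self])), evalAway_coord,
    RingHom.comp_id]

lemma exists_unit_of_eq {i j : Fin (n + 1)} (a : Away 𝒜 (MvPolynomial.X i) →+* T)
    (b : Away 𝒜 (MvPolynomial.X j) →+* T)
    (h : Spec.map (CommRingCat.ofHom a) ≫ Proj.awayι 𝒜 (MvPolynomial.X i) (X_mem i) one_pos =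
      Spec.map (CommRingCat.ofHom b) ≫ Proj.awayι 𝒜 (MvPolynomial.X j) (X_mem j) one_pos) :
    ∃ c : T, IsUnit c ∧ ∀ k, b (coord j k) = c * a (coord i k) := by
  let x : MvPolynomial (Fin (n + 1)) R := MvPolynomial.X i * MvPolynomial.X j
  let e := Proj.pullbackAwayιIso 𝒜 (X_mem i) one_pos (X_mem j) one_pos (x := x) rfl
  let s := pullback.lift (Spec.map (CommRingCat.ofHom a)) (Spec.map (CommRingCat.ofHom b)) h
  let p := Spec.preimage (s ≫ e.hom)
  let L := awayMap 𝒜 (f := MvPolynomial.X i) (X_mem j) (x := x) rfl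
  let M := awayMap 𝒜 (f := MvPolynomial.X j) (X_mem i) (x := x) (mul_comm _ _)
  have ha : p.hom.comp L = a := by
    refine congrArg CommRingCat.Hom.hom (a₁ := CommRingCat.ofHom _) (a₂ := CommRingCat.ofHom _)
      (Spec.map_injective ?_)
    rw [CommRingCat.ofHom_comp, CommRingCat.ofHom_hom, Spec.map_comp, Spec.map_preimage,
      Category.assoc, Proj.pullbackAwayιIso_hom_SpecMap_awayMap_left, pullback.lift_fst]
  have hb : p.hom.comp M = b := by
    refine congrArg CommRingCat.Hom.hom (a₁ := CommRingCat.ofHom _) (a₂ := CommRingCat.ofHom _)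
      (Spec.map_injective ?_)
    rw [CommRingCat.ofHom_comp, CommRingCat.ofHom_hom, Spec.map_comp, Spec.map_preimage,
      Category.assoc, Proj.pullbackAwayιIso_hom_SpecMap_awayMap_right, pullback.lift_snd]
  let J : MvPolynomial (Fin (n + 1)) R →+* Localization.Away x := algebraMap _ _
  have hxu : IsUnit (J (MvPolynomial.X i) * J (MvPolynomial.X j)) := by
    rw [← map_mul]; exact IsLocalization.Away.algebraMap_isUnit x
  obtain ⟨hxi, hxj⟩ := IsUnit.mul_iff.mp hxu
  have hL : ∀ k, (L (coord i k)).val * J (MvPolynomial.X i) = J (MvPolynomial.X k) := by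
    intro k
    rw [val_awayMap]
    have := congrArg (Localization.awayLift J (MvPolynomial.X i) hxi) (val_coord_mul (R := R) i k)
    simpa [Localization.awayLift, IsLocalization.Away.lift_eq, map_mul] using this
  have hM : ∀ k, (M (coord j k)).val * J (MvPolynomial.X j) = J (MvPolynomial.X k) := by
    intro k
    rw [val_awayMap]
    have := congrArg (Localization.awayLift J (MvPolynomial.X j) hxj) (val_coord_mul (R := R) j k)
    simpa [Localization.awayLift, IsLocalization.Away.lift_eq, map_mul] using this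
  have rel : ∀ k, M (coord j k) = M (coord j i) * L (coord i k) := by
    intro k
    ext
    refine hxj.mul_right_cancel ?_
    rw [hM, HomogeneousLocalization.val_mul, mul_right_comm, hM, mul_comm, hL]
  have one : L (coord i j) * M (coord j i) = 1 := by
    rw [mul_comm, ← rel, coord_self, map_one]
  refine ⟨p.hom (M (coord j i)), (IsUnit.of_mul_eq_one_right _ one).map p.hom, fun k ↦ ?_⟩
  rw [← ha, ← hb]
  simp only [RingHom.comp_apply]
  rw [rel, map_mul]

lemma awayι_preimage_basicOpen_X (i k : Fin (n + 1)) :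
    Proj.awayι 𝒜 (MvPolynomial.X i) (X_mem i) one_pos ⁻¹ᵁ Proj.basicOpen 𝒜 (MvPolynomial.X k) =
      PrimeSpectrum.basicOpen (coord (R := R) i k) := by
  rw [Proj.awayι_preimage_basicOpen 𝒜 (X_mem i) one_pos (X_mem k) one_pos]
  congr 1
  apply HomogeneousLocalization.val_injective _
  simp [Away.isLocalizationElem, coord]

lemma iSup_basicOpen_X : ⨆ i, Proj.basicOpen 𝒜 (MvPolynomial.X i) = ⊤ := by
  refine Proj.iSup_basicOpen_eq_top' 𝒜 MvPolynomial.X (fun i ↦ ⟨1, X_mem i⟩) ?_
  rw [eq_top_iff]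
  rintro p -
  induction p using MvPolynomial.induction_on with
  | C r =>
    have h : (MvPolynomial.C r : MvPolynomial (Fin (n + 1)) R) ∈ 𝒜 0 :=
      MvPolynomial.isHomogeneous_C _ r
    exact Subalgebra.algebraMap_mem _ (⟨_, h⟩ : 𝒜 0)
  | add p q hp hq => exact add_mem hp hq
  | mul_X p i hp => exact mul_mem hp (Algebra.subset_adjoin ⟨i, rfl⟩)

end Groth.Agent.ProjPoint
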