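import Groth.Agent.ProjPoint.Basic
import Mathlib.AlgebraicGeometry.Morphisms.ClosedImmersion
import Mathlib.AlgebraicGeometry.PullbackCarrier
import Mathlib.Logic.Equiv.Fin.Basic

/-! The Segre embedding. -/

namespace Groth.Agent.ProjPoint.Segre

open AlgebraicGeometry CategoryTheory CategoryTheory.Limits HomogeneousLocalization TensorProduct

universe u

/-- The base ring `ℤ`, lifted. -/
abbrev Z : Type u := ULift.{u} ℤ

lemma hom_ext_Z {T : Type u} [CommRing T] (f g : Z.{u} →+* T) : f = g := by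
  ext x
  obtain ⟨k⟩ := x
  exact RingHom.congr_fun (RingHom.ext_int (f.comp (ULift.ringEquiv.symm : ℤ ≃+* Z.{u}).toRingHom)
    (g.comp (ULift.ringEquiv.symm : ℤ ≃+* Z.{u}).toRingHom)) k

lemma toZ_ext {X : Scheme.{u}} (f g : X ⟶ Spec (CommRingCat.of Z.{u})) : f = g :=
  specULiftZIsTerminal.hom_ext f g

/-- The chart rings of `ℙⁿ` over the integers. -/
noncomputable abbrev Chart (n : ℕ) (i : Fin (n + 1)) : Type u :=
  Away (CohB1.polyGrading n Z.{u}) (MvPolynomial.X i)

noncomputable local instance (priority := 2000) chartAlgebra (n : ℕ) (i : Fin (n + 1)) :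
    Algebra Z.{u} (Chart.{u} n i) :=
  (chartBase i).toAlgebra

attribute [-instance] ULift.module

variable (n m : ℕ)

/-- The bijection between pairs of coordinates and coordinates of the Segre target. -/
def pairEquiv : Fin (n + 1) × Fin (m + 1) ≃ Fin (n * m + n + m + 1) :=
  finProdFinEquiv.trans (finCongr (by ring))

/-- Projective space over the integers, as a `Proj`. -/
noncomputable abbrev P : Scheme.{u} := Proj (CohB1.polyGrading n Z.{u})

/-- Its structure morphism. -/
noncomputable abbrev str : P.{u} n ⟶ Spec (CommRingCat.of Z.{u}) :=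
  CohB1.ProjSpace.toSpec n Z.{u}

/-- The chart of `ℙⁿ`. -/
noncomputable abbrev ι (i : Fin (n + 1)) :
    Spec (CommRingCat.of (Chart.{u} n i)) ⟶ P.{u} n :=
  Proj.awayι (CohB1.polyGrading n Z.{u}) (MvPolynomial.X i) (X_mem i) one_pos

/-- The product of two projective spaces over the integers. -/
noncomputable abbrev PP : Scheme.{u} :=
  pullback (str.{u} n) (str.{u} m)

/-- The ring of the product chart. -/
noncomputable abbrev T (p : Fin (n + 1) × Fin (m + 1)) : Type u :=
  Chart.{u} n p.1 ⊗[Z.{u}] Chart.{u} m p.2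

/-- Left inclusion. -/
noncomputable abbrev l (p : Fin (n + 1) × Fin (m + 1)) : Chart.{u} n p.1 →+* T.{u} n m p :=
  Algebra.TensorProduct.includeLeftRingHom

/-- Right inclusion. -/
noncomputable abbrev r (p : Fin (n + 1) × Fin (m + 1)) : Chart.{u} m p.2 →+* T.{u} n m p :=
  Algebra.TensorProduct.includeRight.toRingHom

/-- The product chart. -/
noncomputable def q (p : Fin (n + 1) × Fin (m + 1)) :
    Spec (CommRingCat.of (T.{u} n m p)) ⟶ PP.{u} n m :=
  (pullbackSpecIso Z.{u} (Chart.{u} n p.1) (Chart.{u} m p.2)).inv ≫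
    pullback.map _ _ _ _ (ι n p.1) (ι m p.2) (𝟙 _) (toZ_ext _ _) (toZ_ext _ _)

@[reassoc]
lemma q_fst (p : Fin (n + 1) × Fin (m + 1)) :
    q n m p ≫ pullback.fst _ _ = Spec.map (CommRingCat.ofHom (l n m p)) ≫ ι n p.1 := by
  rw [q, Category.assoc, pullback.lift_fst, pullbackSpecIso_inv_fst_assoc]

@[reassoc]
lemma q_snd (p : Fin (n + 1) × Fin (m + 1)) :
    q n m p ≫ pullback.snd _ _ = Spec.map (CommRingCat.ofHom (r n m p)) ≫ ι m p.2 := by
  rw [q, Category.assoc, pullback.lift_snd, pullbackSpecIso_inv_snd_assoc]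
  rfl

instance (p : Fin (n + 1) × Fin (m + 1)) : IsOpenImmersion (q.{u} n m p) := by
  delta q; infer_instance

/-- The coordinate vector of the Segre map on a product chart. -/
noncomputable def w (p : Fin (n + 1) × Fin (m + 1)) (c : Fin (n * m + n + m + 1)) : T.{u} n m p :=
  l n m p (coord p.1 ((pairEquiv n m).symm c).1) * r n m p (coord p.2 ((pairEquiv n m).symm c).2)

lemma w_pairEquiv (p q : Fin (n + 1) × Fin (m + 1)) :
    w.{u} n m p (pairEquiv n m q) = l n m p (coord p.1 q.1) * r n m p (coord p.2 q.2) := by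
  simp [w]

lemma w_self (p : Fin (n + 1) × Fin (m + 1)) : w.{u} n m p (pairEquiv n m p) = 1 := by
  rw [w_pairEquiv, coord_self, coord_self, map_one, map_one, one_mul]

/-- The Segre map on a chart. -/
noncomputable def tau (p : Fin (n + 1) × Fin (m + 1)) :
    Chart.{u} (n * m + n + m) (pairEquiv n m p) →+* T.{u} n m p :=
  evalAway (algebraMap Z.{u} (T.{u} n m p)) (w n m p) (MvPolynomial.X (pairEquiv n m p))
    (isUnit_eval_X (by rw [w_self]; exact isUnit_one))

lemma tau_coord (p : Fin (n + 1) × Fin (m + 1)) (c : Fin (n * m + n + m + 1)) :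
    tau.{u} n m p (coord (pairEquiv n m p) c) = w n m p c := by
  have := evalAway_mk (algebraMap Z.{u} (T.{u} n m p)) (w n m p)
    (isUnit_eval_X (by rw [w_self]; exact isUnit_one))
    (X_mem (pairEquiv n m p)) 1 (MvPolynomial.X c) (by simpa using X_mem c)
  simpa [tau, coord, w_self] using this

/-- The Segre map on a chart, to projective space. -/
noncomputable def g (p : Fin (n + 1) × Fin (m + 1)) :
    Spec (CommRingCat.of (T.{u} n m p)) ⟶ P.{u} (n * m + n + m) :=
  Spec.map (CommRingCat.ofHom (tau.{u} n m p)) ≫ ι (n * m + n + m) (pairEquiv n m p)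

lemma g_eq_point (p : Fin (n + 1) × Fin (m + 1)) :
    g.{u} n m p = point (algebraMap Z.{u} (T.{u} n m p)) (w n m p) (pairEquiv n m p)
      (by rw [w_self]; exact isUnit_one) := rfl

lemma SpecMap_g_eq {A : Type u} [CommRing A] (p p' : Fin (n + 1) × Fin (m + 1))
    (h : T.{u} n m p →+* A) (h' : T.{u} n m p' →+* A)
    (e : Spec.map (CommRingCat.ofHom h) ≫ q n m p = Spec.map (CommRingCat.ofHom h') ≫ q n m p') :
    Spec.map (CommRingCat.ofHom h) ≫ g n m p = Spec.map (CommRingCat.ofHom h') ≫ g n m p' := by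
  have e₁ : Spec.map (CommRingCat.ofHom (h.comp (l n m p))) ≫ ι n p.1 =
      Spec.map (CommRingCat.ofHom (h'.comp (l n m p'))) ≫ ι n p'.1 := by
    simpa only [Category.assoc, q_fst, ← Spec.map_comp_assoc, ← CommRingCat.ofHom_comp] using
      congrArg (· ≫ pullback.fst _ _) e
  have e₂ : Spec.map (CommRingCat.ofHom (h.comp (r n m p))) ≫ ι m p.2 =
      Spec.map (CommRingCat.ofHom (h'.comp (r n m p'))) ≫ ι m p'.2 := by
    simpa only [Category.assoc, q_snd, ← Spec.map_comp_assoc, ← CommRingCat.ofHom_comp] using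
      congrArg (· ≫ pullback.snd _ _) e
  obtain ⟨c, hc, hc'⟩ := exists_unit_of_eq _ _ e₁
  obtain ⟨d, hd, hd'⟩ := exists_unit_of_eq _ _ e₂
  rw [g_eq_point, g_eq_point, SpecMap_point, SpecMap_point,
    point_congr (hom_ext_Z (h'.comp (algebraMap Z.{u} (T.{u} n m p'))) (h.comp (algebraMap Z.{u} (T.{u} n m p)))) rfl]
  refine (point_eq (h.comp (algebraMap Z.{u} (T.{u} n m p))) (hc.mul hd) (fun k ↦ ?_) _ _ _
    (by rw [w_self, map_one]; exact isUnit_one)).symm
  simp only [w, map_mul]
  have h1 := hc' ((pairEquiv n m).symm k).1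
  have h2 := hd' ((pairEquiv n m).symm k).2
  simp only [RingHom.comp_apply] at h1 h2
  rw [h1, h2]
  ring

lemma exists_mem_q_range (z : PP.{u} n m) : ∃ p, z ∈ Set.range (q n m p) := by
  obtain ⟨i, hi⟩ := TopologicalSpace.Opens.mem_iSup.mp (iSup_basicOpen_X.ge
    (show pullback.fst (str.{u} n) (str.{u} m) z ∈ (⊤ : TopologicalSpace.Opens _) from trivial))
  obtain ⟨j, hj⟩ := TopologicalSpace.Opens.mem_iSup.mp (iSup_basicOpen_X.ge
    (show pullback.snd (str.{u} n) (str.{u} m) z ∈ (⊤ : TopologicalSpace.Opens _) from trivial))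
  refine ⟨(i, j), ?_⟩
  rw [q, Scheme.Hom.comp_base, TopCat.coe_comp, Set.range_comp,
    Set.range_eq_univ.mpr (Scheme.Hom.surjective _), Set.image_univ, Scheme.Pullback.range_map]
  rw [← Proj.opensRange_awayι _ _ (X_mem _) one_pos] at hi hj
  exact ⟨hi, hj⟩

/-- The cover of the product by products of charts. -/
noncomputable def cover : (PP.{u} n m).AffineOpenCover where
  I₀ := Fin (n + 1) × Fin (m + 1)
  X p := CommRingCat.of (T.{u} n m p)
  f p := q n m p
  idx z := (exists_mem_q_range n m z).choose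
  covers z := (exists_mem_q_range n m z).choose_spec

/-- The Segre morphism over the integers. -/
noncomputable def psi : PP.{u} n m ⟶ P.{u} (n * m + n + m) :=
  (cover n m).openCover.glueMorphisms (fun p ↦ g n m p) fun p p' ↦ by
    refine (pullback ((cover n m).openCover.f p)
      ((cover n m).openCover.f p')).affineOpenCover.openCover.hom_ext _ _ fun k ↦ ?_
    set s := (pullback ((cover n m).openCover.f p)
      ((cover n m).openCover.f p')).affineOpenCover.openCover.f k
    have hh : Spec.map (Spec.preimage (s ≫ pullback.fst _ _)) = s ≫ pullback.fst _ _ :=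
      Spec.map_preimage _
    have hh' : Spec.map (Spec.preimage (s ≫ pullback.snd _ _)) = s ≫ pullback.snd _ _ :=
      Spec.map_preimage _
    refine (Category.assoc _ _ _).symm.trans (Eq.trans ?_ (Category.assoc _ _ _))
    have e : s ≫ pullback.fst _ _ ≫ (cover n m).openCover.f p =
        s ≫ pullback.snd _ _ ≫ (cover n m).openCover.f p' := congrArg (s ≫ ·) pullback.condition
    rw [← Category.assoc, ← Category.assoc, ← hh, ← hh'] at e
    rw [← hh, ← hh']
    exact SpecMap_g_eq n m p p' (Spec.preimage (s ≫ pullback.fst _ _)).hom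
      (Spec.preimage (s ≫ pullback.snd _ _)).hom e

@[reassoc]
lemma q_psi (p : Fin (n + 1) × Fin (m + 1)) : q.{u} n m p ≫ psi.{u} n m = g n m p :=
  (cover n m).openCover.ι_glueMorphisms _ _ p

lemma psi_preimage (c : Fin (n + 1) × Fin (m + 1)) :
    psi.{u} n m ⁻¹ᵁ (ι (n * m + n + m) (pairEquiv n m c)).opensRange = (q n m c).opensRange := by
  have hr : (q.{u} n m c).opensRange =
      pullback.fst (str.{u} n) (str.{u} m) ⁻¹ᵁ (ι n c.1).opensRange ⊓
        pullback.snd (str.{u} n) (str.{u} m) ⁻¹ᵁ (ι m c.2).opensRange := by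
    ext1
    change Set.range (q n m c) = _
    rw [q, Scheme.Hom.comp_base, TopCat.coe_comp, Set.range_comp,
      Set.range_eq_univ.mpr (Scheme.Hom.surjective _), Set.image_univ, Scheme.Pullback.range_map]
    rfl
  rw [hr]
  ext z
  obtain ⟨p, x, rfl⟩ : ∃ p, ∃ x, q n m p x = z := ⟨_, (cover n m).covers z⟩
  change x ∈ (q n m p ≫ psi.{u} n m) ⁻¹ᵁ _ ↔
    x ∈ (q n m p ≫ pullback.fst _ _) ⁻¹ᵁ _ ∧ x ∈ (q n m p ≫ pullback.snd _ _) ⁻¹ᵁ _
  rw [q_psi, q_fst, q_snd, g]
  simp only [Proj.opensRange_awayι, Scheme.Hom.comp_preimage, awayι_preimage_basicOpen_X]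
  change tau.{u} n m p (coord _ _) ∉ x.asIdeal ↔ l n m p _ ∉ x.asIdeal ∧ r n m p _ ∉ x.asIdeal
  rw [tau_coord, w_pairEquiv, x.isPrime.mul_mem_iff_mem_or_mem, not_or]

lemma tau_surjective (p : Fin (n + 1) × Fin (m + 1)) : Function.Surjective (tau.{u} n m p) := by
  have hbase : ∀ a : Z.{u}, algebraMap Z.{u} (T.{u} n m p) a ∈ (tau.{u} n m p).range := fun a ↦
    ⟨chartBase _ a, RingHom.congr_fun (hom_ext_Z ((tau.{u} n m p).comp (chartBase _)) _) a⟩
  -- a chart ring is generated by the coordinates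
  have gen : ∀ {k : ℕ} (i : Fin (k + 1)) (h : Chart.{u} k i →+* T.{u} n m p),
      (∀ c, h (coord i c) ∈ (tau.{u} n m p).range) → ∀ z, h z ∈ (tau.{u} n m p).range := by
    intro k i h hc z
    obtain ⟨d, a, ha, rfl⟩ := Away.mk_surjective _ (X_mem i) z
    have hu : IsUnit (MvPolynomial.eval₂Hom (chartBase (R := Z.{u}) i) (coord i) (MvPolynomial.X i)) :=
      isUnit_eval_X (by rw [coord_self]; exact isUnit_one)
    have h1 := evalAway_mk (chartBase i) (coord i) hu (X_mem i) d a ha
    rw [evalAway_coord, RingHom.id_apply, MvPolynomial.eval₂Hom_X', coord_self, one_pow,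
      mul_one] at h1
    rw [h1, MvPolynomial.map_eval₂Hom, hom_ext_Z (h.comp (chartBase i)) (algebraMap Z.{u} _)]
    clear h1 ha
    induction a using MvPolynomial.induction_on with
    | C a => simpa using hbase a
    | add a b ha hb => rw [map_add]; exact add_mem ha hb
    | mul_X a c ha => rw [map_mul, MvPolynomial.eval₂Hom_X']; exact mul_mem ha (hc c)
  have hl := gen p.1 (l n m p) fun c ↦ ⟨coord _ (pairEquiv n m (c, p.2)), by
    rw [tau_coord, w_pairEquiv, coord_self, map_one, mul_one]⟩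
  have hr := gen p.2 (r n m p) fun c ↦ ⟨coord _ (pairEquiv n m (p.1, c)), by
    rw [tau_coord, w_pairEquiv, coord_self, map_one, one_mul]⟩
  intro z
  induction z using TensorProduct.induction_on with
  | zero => exact ⟨0, map_zero _⟩
  | tmul a b =>
    have : a ⊗ₜ[Z.{u}] b = l n m p a * r n m p b := by simp [l, r]
    rw [this]
    exact mul_mem (hl a) (hr b)
  | add a b ha hb =>
    obtain ⟨a', rfl⟩ := ha
    obtain ⟨b', rfl⟩ := hb
    exact ⟨a' + b', map_add _ _ _⟩

instance isClosedImmersion_psi : IsClosedImmersion (psi.{u} n m) := by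
  let N := n * m + n + m
  let 𝒱 : (P.{u} N).AffineOpenCover :=
    { I₀ := Fin (N + 1)
      X := fun c ↦ CommRingCat.of (Chart.{u} N c)
      f := fun c ↦ ι N c
      idx := fun z ↦ (TopologicalSpace.Opens.mem_iSup.mp
        (iSup_basicOpen_X.ge (show z ∈ ⊤ from trivial))).choose
      covers := fun z ↦ by
        have h := (TopologicalSpace.Opens.mem_iSup.mp
          (iSup_basicOpen_X.ge (show z ∈ ⊤ from trivial))).choose_spec
        rwa [← Proj.opensRange_awayι _ _ (X_mem _) one_pos] at h }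
  refine IsZariskiLocalAtTarget.of_openCover (P := @IsClosedImmersion) 𝒱.openCover fun c ↦ ?_
  obtain ⟨p, rfl⟩ := (pairEquiv n m).surjective c
  have hp := IsOpenImmersion.isPullback (Spec.map (CommRingCat.ofHom (tau.{u} n m p))) (q n m p)
    (ι N (pairEquiv n m p)) (psi.{u} n m) (q_psi n m p) (psi_preimage n m p)
  change IsClosedImmersion (pullback.snd (psi.{u} n m) (ι N (pairEquiv n m p)))
  rw [← hp.flip.isoPullback_inv_snd]
  have := IsClosedImmersion.spec_of_surjective (CommRingCat.ofHom (tau.{u} n m p)) (tau_surjective n m p)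
  infer_instance

lemma exists_baseChange {P Q R S B : Scheme.{u}} (hB : ∀ {X : Scheme.{u}} (f g : X ⟶ B), f = g)
    (sP : P ⟶ B) (sQ : Q ⟶ B) (sR : R ⟶ B) (sS : S ⟶ B) (ψ : pullback sP sQ ⟶ R)
    [IsClosedImmersion ψ] :
    ∃ φ : pullback (pullback.snd sP sS) (pullback.snd sQ sS) ⟶ pullback sR sS,
      IsClosedImmersion φ ∧ φ ≫ pullback.snd sR sS =
        pullback.fst (pullback.snd sP sS) (pullback.snd sQ sS) ≫ pullback.snd sP sS := by
  let Φ : pullback (pullback.snd sP sS) (pullback.snd sQ sS) ⟶ pullback sP sQ :=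
    pullback.lift (pullback.fst _ _ ≫ pullback.fst _ _) (pullback.snd _ _ ≫ pullback.fst _ _)
      (hB _ _)
  let φ : pullback (pullback.snd sP sS) (pullback.snd sQ sS) ⟶ pullback sR sS :=
    pullback.lift (Φ ≫ ψ) (pullback.fst _ _ ≫ pullback.snd sP sS) (hB _ _)
  have Φf : Φ ≫ pullback.fst sP sQ =
      pullback.fst (pullback.snd sP sS) (pullback.snd sQ sS) ≫ pullback.fst sP sS :=
    pullback.lift_fst _ _ _
  have Φs : Φ ≫ pullback.snd sP sQ =
      pullback.snd (pullback.snd sP sS) (pullback.snd sQ sS) ≫ pullback.fst sQ sS :=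
    pullback.lift_snd _ _ _
  have φs : φ ≫ pullback.snd sR sS =
      pullback.fst (pullback.snd sP sS) (pullback.snd sQ sS) ≫ pullback.snd sP sS :=
    pullback.lift_snd _ _ _
  have φf : φ ≫ pullback.fst sR sS = Φ ≫ ψ := pullback.lift_fst _ _ _
  clear_value Φ φ
  refine ⟨φ, ?_, φs⟩
  -- the universal property of the big square
  let L : ∀ s : PullbackCone (ψ ≫ sR) sS,
      s.pt ⟶ pullback (pullback.snd sP sS) (pullback.snd sQ sS) := fun s ↦
    pullback.lift (pullback.lift (s.fst ≫ pullback.fst _ _) s.snd (hB _ _))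
      (pullback.lift (s.fst ≫ pullback.snd _ _) s.snd (hB _ _))
      ((pullback.lift_snd _ _ _).trans (pullback.lift_snd _ _ _).symm)
  have Lff : ∀ s, L s ≫ pullback.fst _ _ ≫ pullback.fst sP sS = s.fst ≫ pullback.fst sP sQ := by
    intro s
    rw [← Category.assoc]
    exact (congrArg (· ≫ pullback.fst sP sS) (pullback.lift_fst _ _ _)).trans
      (pullback.lift_fst _ _ _)
  have Lfs : ∀ s, L s ≫ pullback.fst _ _ ≫ pullback.snd sP sS = s.snd := by
    intro s
    rw [← Category.assoc]
    exact (congrArg (· ≫ pullback.snd sP sS) (pullback.lift_fst _ _ _)).trans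
      (pullback.lift_snd _ _ _)
  have Lsf : ∀ s, L s ≫ pullback.snd _ _ ≫ pullback.fst sQ sS = s.fst ≫ pullback.snd sP sQ := by
    intro s
    rw [← Category.assoc]
    exact (congrArg (· ≫ pullback.fst sQ sS) (pullback.lift_snd _ _ _)).trans
      (pullback.lift_fst _ _ _)
  clear_value L
  have hbig : IsPullback Φ (φ ≫ pullback.snd sR sS) (ψ ≫ sR) sS := by
    refine IsPullback.of_isLimit' ⟨hB _ _⟩ (PullbackCone.IsLimit.mk _ L ?_ ?_ ?_)
    · intro s
      apply pullback.hom_ext
      · rw [Category.assoc, Φf, Lff]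
      · rw [Category.assoc, Φs, Lsf]
    · intro s
      rw [φs, Lfs]
    · intro s t h₁ h₂
      rw [φs] at h₂
      refine pullback.hom_ext (pullback.hom_ext ?_ ?_) (pullback.hom_ext ?_ ?_) <;>
        rw [Category.assoc, Category.assoc]
      · rw [Lff, ← h₁, Category.assoc, Φf]
      · rw [Lfs, h₂]
      · rw [Lsf, ← h₁, Category.assoc, Φs]
      · rw [← pullback.condition (f := pullback.snd sP sS) (g := pullback.snd sQ sS), Lfs, h₂]
  have hsq : IsPullback Φ φ ψ (pullback.fst sR sS) :=
    IsPullback.of_bot hbig φf.symm (IsPullback.of_hasPullback _ _)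
  exact MorphismProperty.of_isPullback (P := @IsClosedImmersion) hsq inferInstance

/-- The Segre embedding over an arbitrary base. -/
theorem exists_segre (S : Scheme.{u}) :
    ∃ φ : pullback (CohB1.ProjSpaceOver.toBase n S) (CohB1.ProjSpaceOver.toBase m S) ⟶
        CohB1.ProjSpaceOver (n * m + n + m) S,
      IsClosedImmersion φ ∧ φ ≫ CohB1.ProjSpaceOver.toBase (n * m + n + m) S =
        pullback.fst (CohB1.ProjSpaceOver.toBase n S) (CohB1.ProjSpaceOver.toBase m S) ≫
          CohB1.ProjSpaceOver.toBase n S :=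
  exists_baseChange (fun f g ↦ specULiftZIsTerminal.hom_ext f g) (str.{u} n) (str.{u} m)
    (str.{u} (n * m + n + m)) (specULiftZIsTerminal.from S) (psi n m)

end Groth.Agent.ProjPoint.Segre
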